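import Cfsg.Agent.H235.TitsIdx
import Cfsg.Agent.H87.TitsData
import Cfsg.Agent.H430.CfBase
import Cfsg.Agent.H393.Iso.TitsJ4
import Cfsg.Agent.H800.Sp.TitsFive
import Cfsg.Agent.TitsK.SheetT
import Cfsg.Agent.TitsK.Inst
import Cfsg.Agent.TitsK.CentOdd
import Cfsg.Agent.FourTwo.Perf

/-!
# The row of the Tits group in S5880 (helper235)
-/

set_option autoImplicit false

universe u v

namespace Cfsg.Agent.H235.TitsRow

open Subgroup Cfsg.Agent.H235.TitsIdx

/-- transport of the configuration -/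
theorem dat_congr {G : Type u} {H : Type v} [Group G] (D : H87.TitsAbs.Dat G) [Group H] (e : G ≃* H) :
    Nonempty (H87.TitsAbs.Dat H) := by
  refine ⟨⟨e D.x, e D.t, e D.s, e D.z, ?_, ?_, ?_, ?_, ?_, ?_, ?_, ?_, ?_, ?_, ?_⟩⟩
  · rw [← map_pow, D.x13, map_one]
  · intro h; exact D.x1 (e.injective (by rw [h, map_one]))
  · rw [← map_inv, ← map_mul, ← map_mul, D.txt, map_pow]
  · intro h; exact D.t1 (e.injective (by rw [h, map_one]))
  · rw [← map_pow, D.t3, map_one]
  · rw [← map_pow, D.s3, map_one]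
  · rw [← map_pow, D.z3, map_one]
  · rw [← map_mul, D.zt, map_mul]
  · rw [← map_mul, D.zs, map_mul]
  · rw [← map_mul, D.ts, map_mul, map_mul]
  · intro a ha b hb c hc h
    have h1 := D.conj a ha b hb c hc h
    have h2 := e.toMonoidHom.map_isConj h1
    simpa using h2

/-- no elements of order 25 -/
def Exp (G : Type u) [Group G] : Prop := ∀ y : G, y ^ 25 = 1 → y ^ 5 = 1

theorem Exp.congr {G : Type u} {H : Type v} [Group G] (h : Exp G) [Group H] (e : G ≃* H) : Exp H := by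
  intro y hy
  have h1 := h (e.symm y) (by rw [← map_pow, hy, map_one])
  have h2 := congrArg e h1
  rwa [map_pow, e.apply_symm_apply, map_one] at h2

section

open Cfsg.Agent.Omega.TwoF.Tits Cfsg.Agent.Omega.TwoF.Scalar Cfsg.Agent.Omega.TwoF.Orb
  Cfsg.Agent.ChevalleyStructure.Tits.Main

theorem exp_aux {G : Type u} [Group G] [Finite G] (P : Subgroup G) (hc : Nat.card G = 2 ^ 11 * 3 ^ 3 * 5 ^ 2 * 13)
    (hP : Nat.card P = 25) (he : ∀ a ∈ P, a ^ 5 = 1) : Exp G := by
  have : Fact (Nat.Prime 5) := ⟨Nat.prime_five⟩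
  intro y hy
  have hp : IsPGroup 5 (zpowers y) := by
    have h1 : orderOf y ∣ 5 ^ 2 := orderOf_dvd_of_pow_eq_one hy
    obtain ⟨k, -, hk⟩ := (Nat.dvd_prime_pow Nat.prime_five).1 h1
    exact IsPGroup.of_card (n := k) (by rw [Nat.card_zpowers, hk])
  have hPp : IsPGroup 5 P := IsPGroup.of_card (n := 2) (by rw [hP]; norm_num)
  have hi : ¬ 5 ∣ P.index := by
    have h1 := P.card_mul_index
    rw [hP, hc] at h1
    have h2 : P.index = 718848 := by omega
    rw [h2]; norm_num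
  obtain ⟨Q, hQ⟩ := hp.exists_le_sylow
  obtain ⟨g, hg⟩ := MulAction.exists_smul_eq G Q (hPp.toSylow hi)
  have h1 : g * y * g⁻¹ ∈ ((g • Q : Sylow 5 G) : Subgroup G) := by
    rw [Sylow.coe_subgroup_smul]
    exact Subgroup.smul_mem_pointwise_smul _ _ _ (hQ (mem_zpowers y))
  rw [hg] at h1
  have h2 := he _ h1
  rw [conj_pow] at h2
  have h3 : y ^ 5 = g⁻¹ * (g * y ^ 5 * g⁻¹) * g := by group
  rw [h3, h2]; group

theorem exp_C : Exp C := exp_aux Cfsg.Agent.CpAutTits.Fus.P H0_result.2.2.2 Cfsg.Agent.CpAutTits.Fus.card_P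
  (elem_grp two).pow

theorem exp_C_congr {X : Type} [Group X] (e : C ≃* X) : Exp X := by
  have h := exp_C
  exact h.congr e

end

theorem exp_TT_aux (K : Subgroup (Matrix.GeneralLinearGroup Cfsg.Agent.ChevalleyStructure.Tits.Mat.I52 (ZMod 2)))
    (hK : K = Cfsg.Agent.ChevalleyStructure.Tits.Order.H0)
    (e : Nonempty (↥(_root_.commutator K) ≃* ↥Cfsg.Agent.TitsK.TT)) : Exp ↥Cfsg.Agent.TitsK.TT := by
  subst hK
  obtain ⟨e⟩ := e
  exact exp_C_congr e

theorem exp_TT : Exp ↥Cfsg.Agent.TitsK.TT :=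
  exp_TT_aux (Cfsg.Lie.twistedF4 (ZMod 2) 1) Cfsg.Agent.ChevalleyStructure.Tits.Main.T0_eq_H0
    Cfsg.Agent.TitsK.exists_equiv


/-- the facts about the Tits group -/
theorem facts {X : Type u} [Group X] [Finite X] (h : Lie.IsoTits X) : Facts X := by
  have ho := CpAutTits.Row.out h
  refine ⟨by rw [ho.card]; norm_num, ?_, ?_, ho.cent, ?_, ?_⟩
  · obtain ⟨e⟩ := h
    obtain ⟨D⟩ := H87.TitsData.dat_tits
    exact dat_congr D e.symm
  · intro x y hx hy
    obtain ⟨g, hg⟩ := H800.Sp.TitsFive.oneClass h x y hx hy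
    exact isConj_iff.2 ⟨g, hg⟩
  · obtain ⟨e⟩ := CpAutTits.Row.exists_equiv h
    have h1 := exp_TT
    have h2 : Exp X := h1.congr e.symm
    exact h2
  · exact H393.Iso.na_tits h

/-! ### the centralizer of a central involution -/

section cent

open Cfsg.Agent.TitsK

variable {G : Type u} [Group G] (D : TData G)

theorem z_mem_T : D.z ∈ D.T := D.V_le_T D.z_mem_V

/-- the centralizer of `z` -/
def CZ : Subgroup ↥D.T := centralizer ({(⟨D.z, z_mem_T D⟩ : ↥D.T)} : Set ↥D.T)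

theorem mem_CZ {t : ↥D.T} : t ∈ CZ D ↔ (t : G) * D.z = D.z * t := by
  unfold CZ
  rw [mem_centralizer_singleton_iff]
  constructor
  · intro h; exact congrArg Subtype.val h
  · intro h; exact Subtype.ext h

theorem CZ_ne_top : CZ D ≠ ⊤ := by
  intro h
  obtain ⟨t, ht, hne⟩ := D.z_not_central
  apply hne
  have h1 : (⟨t, ht⟩ : ↥D.T) ∈ CZ D := by rw [h]; exact mem_top _
  rw [mem_CZ] at h1
  have h2 : t * D.z = D.z * t := h1
  rw [h2, mul_inv_cancel_right]

theorem inv_CZ [Finite G] (α : MulAut ↥D.T) :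
    ∃ s : ↥D.T, (CZ D).map α.toMonoidHom = (CZ D).map (MulAut.conj s).toMonoidHom := by
  have f2 : Fact (Nat.Prime 2) := ⟨Nat.prime_two⟩
  refine H430.CfBase.inv_of_sylow D.syl (CZ D) (fun α hα => ⟨1, ?_⟩) α
  rw [_root_.map_one, H430.CfBase.map_one]
  -- `α z = z`
  set z' : ↥D.T := ⟨D.z, z_mem_T D⟩ with hz'
  have hz1 : z' ≠ 1 := fun h => D.z_ne (congrArg Subtype.val h)
  have hcz : ∀ s ∈ D.syl, z' * s = s * z' := by
    intro s hs
    have h1 := D.z_central s ((D.mem_S).1 ((D.mem_syl).1 hs)).1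
    apply Subtype.ext
    show D.z * (s : G) = s * D.z
    rw [mul_inv_eq_iff_eq_mul] at h1
    exact h1.symm
  have h2 : α z' = z' := by
    have h3 : ((α z' : ↥D.T) : G) = 1 ∨ ((α z' : ↥D.T) : G) = D.z := by
      refine D.cent_S' (D.T_le (α z').2) fun s hs => ?_
      have hs1 : (⟨s, hs.2⟩ : ↥D.T) ∈ (D.syl : Subgroup ↥D.T) := hs
      rw [← hα] at hs1
      obtain ⟨r, hr, hrs⟩ := hs1
      have h4 := congrArg α (hcz r hr)
      rw [map_mul, map_mul] at h4
      have h5 : α r = ⟨s, hs.2⟩ := hrs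
      rw [h5] at h4
      exact congrArg Subtype.val h4
    rcases h3 with h3 | h3
    · exfalso
      apply hz1
      apply α.injective
      rw [map_one]
      exact Subtype.ext h3
    · exact Subtype.ext h3
  ext t
  constructor
  · rintro ⟨r, hr, rfl⟩
    have h3 : r * z' = z' * r := mem_centralizer_singleton_iff.1 hr
    have h4 := congrArg α h3
    rw [map_mul, map_mul, h2] at h4
    exact mem_centralizer_singleton_iff.2 h4
  · intro ht
    have h3 : t * z' = z' * t := mem_centralizer_singleton_iff.1 ht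
    refine ⟨α.symm t, mem_centralizer_singleton_iff.2 ?_, α.apply_symm_apply t⟩
    apply α.injective
    show α (α.symm t * z') = α (z' * α.symm t)
    rw [map_mul, map_mul, h2, MulEquiv.apply_symm_apply, h3]

theorem index_CZ [Finite G] (hc : Nat.card ↥D.T = 17971200)
    (h3 : ∀ g ∈ D.H, g ^ 3 = 1 → g * D.z * g⁻¹ = D.z → g = 1) : (CZ D).index ≤ 1755 := by
  have f2 : Fact (Nat.Prime 2) := ⟨Nat.prime_two⟩
  have f3 : Fact (Nat.Prime 3) := ⟨Nat.prime_three⟩
  have hle : (D.syl : Subgroup ↥D.T) ≤ CZ D := by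
    intro s hs
    rw [mem_CZ]
    have h1 := D.z_central s ((D.mem_S).1 ((D.mem_syl).1 hs)).1
    rw [mul_inv_eq_iff_eq_mul] at h1
    exact h1
  have hcs : Nat.card (D.syl : Subgroup ↥D.T) = 2 ^ 11 := by
    rw [D.syl.card_eq_multiplicity, hc]
    have : (17971200 : ℕ) = 2 ^ 11 * 8775 := by norm_num
    rw [this, Nat.factorization_mul (by norm_num) (by norm_num), Nat.factorization_pow, Finsupp.add_apply,
      Finsupp.smul_apply, Nat.Prime.factorization_self Nat.prime_two,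
      Nat.factorization_eq_zero_of_not_dvd (by norm_num : ¬ 2 ∣ 8775)]
    norm_num
  have hne : (D.syl : Subgroup ↥D.T) ≠ CZ D := by
    intro h
    have h1 : (⟨D.zbm, D.zbm_mem⟩ : ↥D.T) ∈ CZ D := by
      rw [mem_CZ]
      have := D.zbm_z
      rw [mul_inv_eq_iff_eq_mul] at this
      exact this
    rw [← h] at h1
    have h2 : D.zbm ∈ D.U := ((D.mem_S).1 ((D.mem_syl).1 h1)).1
    exact D.zbm_ne (D.opp _ h2 D.zbm_opp)
  obtain ⟨m, hm⟩ : 2 ^ 11 ∣ Nat.card (CZ D) := by
    rw [← hcs]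
    exact Subgroup.card_dvd_of_le hle
  have hmul := (CZ D).card_mul_index
  rw [hc, hm] at hmul
  have hm3 : ¬ 3 ∣ m := by
    intro h
    obtain ⟨g, hg⟩ := exists_prime_orderOf_dvd_card' (G := CZ D) 3 (by rw [hm]; exact h.mul_left _)
    have h4 : ((g : ↥D.T) : G) ^ 3 = 1 := by
      have : g ^ 3 = 1 := by rw [← hg]; exact pow_orderOf_eq_one g
      have h5 := congrArg (fun x : CZ D => ((x : ↥D.T) : G)) this
      simpa using h5
    have h5 := (mem_CZ D).1 g.2
    have h6 := h3 _ (D.T_le (g : ↥D.T).2) h4 (by rw [h5, mul_inv_cancel_right])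
    have h7 : g = 1 := Subtype.ext (Subtype.ext h6)
    rw [h7, orderOf_one] at hg
    omega
  have hm1 : m ≠ 1 := by
    intro h
    rw [h, mul_one, ← hcs] at hm
    exact hne (Subgroup.eq_of_le_of_card_ge hle hm.le)
  have hm2 : ¬ 2 ∣ m := by
    rintro ⟨k, rfl⟩
    have : k * (CZ D).index * 2 ^ 12 = 17971200 := by rw [← hmul]; ring
    omega
  have hm0 : m ≠ 0 := by rintro rfl; omega
  have hm5 : 5 ≤ m := by omega
  have h8 : m * (CZ D).index = 8775 := by
    have : 2 ^ 11 * (m * (CZ D).index) = 2 ^ 11 * 8775 := by rw [← mul_assoc, hmul]; norm_num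
    exact Nat.eq_of_mul_eq_mul_left (by norm_num) this
  by_contra hcon
  rw [not_le] at hcon
  have := Nat.mul_le_mul hm5 (Nat.succ_le_of_lt hcon)
  omega

end cent

theorem row_aux {G : Type u} [Group G] [Finite G] (D : TitsK.TData G) (hs : IsSimpleGroup ↥D.T) (F : Facts ↥D.T)
    (h3 : ∀ g ∈ D.H, g ^ 3 = 1 → g * D.z * g⁻¹ = D.z → g = 1) : H430.CfBase.Row ↥D.T := by
  refine H430.CfBase.Row.of_inv (CZ D) (CZ_ne_top D) (inv_CZ D) fun L hL => ?_
  have h1 := index_CZ D F.card h3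
  have h2 := F.le_index hL
  nlinarith

theorem row_TT : H430.CfBase.Row ↥TitsK.TT := by
  have hfin : Finite Cfsg.Agent.FourTwo.Base.LL := Cfsg.Agent.FourTwo.Perf.instFiniteLL
  have hfin' : Finite ↥TitsK.TT := inferInstance
  have hF : Facts ↥TitsK.TT := by
    obtain ⟨e⟩ := TitsK.exists_equiv
    exact facts (X := ↥TitsK.TT) ⟨e.symm⟩
  exact row_aux TitsK.tdata TitsK.simple_TT hF fun g hg h1 h2 => TitsK.three_z hg h1 h2

theorem row_congr {G : Type u} {H : Type v} [Group G] (h : H430.CfBase.Row G) [Group H] (e : G ≃* H) :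
    H430.CfBase.Row H := h.of_equiv e

/-- **The row of the Tits group.** -/
theorem row_tits {S : Type u} [Group S] [Finite S] [IsSimpleGroup S] (h : Cfsg.Lie.IsoTits S) :
    H430.CfBase.Row S := by
  obtain ⟨e⟩ := CpAutTits.Row.exists_equiv h
  have h1 := row_TT
  exact row_congr h1 e.symm

end Cfsg.Agent.H235.TitsRow
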