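import Cfsg.Agent.H235.ExtOut
import Cfsg.Agent.H489.OutSpor
import Cfsg.Agent.S0205

/-!
# Extension of characters to `Aut S`: the sporadic groups and the Tits group (helper235, task 380)
-/

set_option autoImplicit false

universe u

namespace Cfsg.Agent.H235.ExtOut

open Cfsg Cfsg.Agent.H671.H5

variable {S : Type u} [Group S] [Finite S] [IsSimpleGroup S]

theorem two_dvd_card (hna : ¬ IsMulCommutative S) : 2 ∣ Nat.card S := by
  by_contra h
  have h1 : Odd (Nat.card S) := by
    rw [← Nat.not_even_iff_odd, even_iff_two_dvd]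
    exact h
  have h2 := S0205.result h1
  have h3 : ∀ n, derivedSeries S n = ⊤ := by
    intro n
    induction n with
    | zero => rfl
    | succ n ih =>
      rw [derivedSeries_succ, ih]
      exact commutator_eq_top hna
  obtain ⟨n, hn⟩ := h2
  rw [h3 n] at hn
  exact top_ne_bot hn

theorem ext_sporadic (hna : ¬ IsMulCommutative S) (h : IsSporadicGroup S) :
    ∃ θ : IrrCharacter S, charDegree (θ : S → ℂ) ≠ 1 ∧ ExtAut θ :=
  ext_of_le_two hna (H489.card_out_sporadic h) (two_dvd_card hna)

theorem ext_tits (hna : ¬ IsMulCommutative S) (h : Lie.IsoTits S) :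
    ∃ θ : IrrCharacter S, charDegree (θ : S → ℂ) ≠ 1 ∧ ExtAut θ :=
  ext_of_le_two hna (H489.card_out_tits h) (two_dvd_card hna)

end Cfsg.Agent.H235.ExtOut
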