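import Cfsg.Agent.H235.ExtRows
import Cfsg.Agent.H566.Main

/-!
# Extension of a character to `Aut S`: `Out S` cyclic of prime power order (helper235, task 380)
-/

set_option autoImplicit false

universe u

namespace Cfsg.Agent.H235.ExtOut

open Cfsg Cfsg.Agent.H671.H5

variable {S : Type u} [Group S] [Finite S] [IsSimpleGroup S]

theorem not_solvable (hna : ¬ IsMulCommutative S) : ¬ Group.IsSolvable S := by
  intro h2
  have h3 : ∀ n, derivedSeries S n = ⊤ := by
    intro n
    induction n with
    | zero => rfl
    | succ n ih =>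
      rw [derivedSeries_succ, ih]
      exact commutator_eq_top hna
  obtain ⟨n, hn⟩ := h2
  rw [h3 n] at hn
  exact top_ne_bot hn

/-- An automorphism of prime power order of a non-abelian simple group fixes a nontrivial element. -/
theorem exists_fixed' (hK : H566.KnownAll.{u}) (hna : ¬ IsMulCommutative S) {q : ℕ} (hq : q.Prime) (a : MulAut S)
    {m : ℕ} (ha : orderOf a = q ^ m) : ∃ x : S, x ≠ 1 ∧ a x = x := by
  by_cases hd : q ∣ Nat.card S
  · exact exists_fixed hq hd a ha
  · have hcop : (Nat.card (Subgroup.zpowers a)).Coprime (Nat.card S) := by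
      rw [Nat.card_zpowers, ha]
      exact Nat.Coprime.pow_left _ ((Nat.Prime.coprime_iff_not_dvd hq).2 hd)
    have h1 := H566.rich_aut hK (not_solvable hna) (Subgroup.zpowers a) hcop
    by_contra hcon
    push Not at hcon
    have h2 : H566.Fx (Subgroup.zpowers a) = ⊥ := by
      rw [eq_bot_iff]
      intro x hx
      by_contra hx1
      exact hcon x hx1 (hx a (Subgroup.mem_zpowers a))
    have h3 := h1.1
    rw [h2] at h3
    exact h3 inferInstance

/-- **Task 380.** -/
theorem ext_of_out' (hK : H566.KnownAll.{u}) (hna : ¬ IsMulCommutative S) {q k : ℕ} (hq : q.Prime)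
    (hcyc : IsCyclic (Out S)) (hcard : Nat.card (Out S) = q ^ k) :
    ∃ θ : IrrCharacter S, charDegree (θ : S → ℂ) ≠ 1 ∧ ExtAut θ :=
  ext_of_fixed hna hq hcyc hcard fun a _ hm => exists_fixed' hK hna hq a hm

end Cfsg.Agent.H235.ExtOut
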