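import Cfsg.Agent.H235.ExtAll
import Cfsg.Agent.S0000

/-!
# Task 380 with the classification (helper235)
-/

set_option autoImplicit false

universe u

namespace Cfsg.Agent.H235.ExtOut

open Cfsg Cfsg.Agent.H671.H5

theorem ext_of_out {S : Type u} [Group S] [Finite S] [IsSimpleGroup S] (hna : ¬ IsMulCommutative S) {q k : ℕ}
    (hq : q.Prime) (hcyc : IsCyclic (Cfsg.Out S)) (hcard : Nat.card (Cfsg.Out S) = q ^ k) :
    ∃ θ : Cfsg.IrrCharacter S, Cfsg.charDegree (θ : S → ℂ) ≠ 1 ∧ Cfsg.Agent.H671.H5.ExtAut θ :=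
  ext_of_out' (fun _ _ _ _ => Cfsg.Agent.S0000.result) hna hq hcyc hcard

end Cfsg.Agent.H235.ExtOut
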