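import Mathlib
import Cfsg.Prelude.Def_Transfer
import Cfsg.Agent.Transfer.Extraspecial

/-!
# Elements of order 4 in an extraspecial 2-group of plus type (helper235)
-/

set_option autoImplicit false

namespace Cfsg.Agent.H235.ExtraCount

open Subgroup Finset
open scoped commutatorElement
open scoped Classical

variable {E : Type*} [Group E]

/-- the basic facts on `E`: commutators and squares lie in `{1, z}` -/
structure Bas (E : Type*) [Group E] (z : E) : Prop where
  ne : z ≠ 1
  sq : z * z = 1
  cen : ∀ x : E, z * x = x * z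
  com : ∀ a x : E, a * x = x * a ∨ a * x = x * a * z
  two : ∀ x : E, x * x = 1 ∨ x * x = z
  mem : ∀ x : E, (∀ y : E, x * y = y * x) → x = 1 ∨ x = z

theorem bas_of [Finite E] (h : Cfsg.IsExtraspecial 2 E) : ∃ z : E, Bas E z := by
  have hc : Nat.card (center E) = 2 := h.2
  have hf : Finite (center E) := inferInstance
  obtain ⟨z, hz⟩ : ∃ z : center E, z ≠ 1 := by
    have : Nontrivial (center E) := Finite.one_lt_card_iff_nontrivial.1 (by omega)
    exact exists_ne 1
  have key : ∀ w : center E, w = 1 ∨ w = z := by
    intro w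
    have h2 := (Nat.card_eq_two_iff' (1 : center E)).1 hc
    by_cases hw : w = 1
    · exact Or.inl hw
    · exact Or.inr (h2.unique hw hz)
  have key' : ∀ w : E, w ∈ center E → w = 1 ∨ w = z := by
    intro w hw
    rcases key ⟨w, hw⟩ with h1 | h1
    · exact Or.inl (congrArg Subtype.val h1)
    · exact Or.inr (congrArg Subtype.val h1)
  have hzz : (z : E) * z = 1 := by
    have := Transfer.Extraspecial.pow_eq_one_of_mem_center h z.2
    rwa [pow_two] at this
  refine ⟨z, fun h1 => hz (Subtype.ext h1), hzz, fun x => (mem_center_iff.1 z.2 x).symm, ?_, ?_, ?_⟩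
  · intro a x
    rcases key' _ (Transfer.Extraspecial.comm_mem_center h a x) with h1 | h1
    · left
      exact commutatorElement_eq_one_iff_mul_comm.1 h1
    · right
      have h3 : a * x = ⁅a, x⁆ * (x * a) := by rw [commutatorElement_def]; group
      rw [h3, h1]
      exact (mem_center_iff.1 z.2 _).symm
  · intro x
    have := key' _ (Transfer.Extraspecial.pow_mem_center h x)
    rwa [pow_two] at this
  · intro x hx
    exact key' x (mem_center_iff.2 fun y => (hx y).symm)

/-- the sign of the commutator -/
noncomputable def e (a x : E) : ℤ := if a * x = x * a then 1 else -1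

/-- the sign of the square -/
noncomputable def c (x : E) : ℤ := if x * x = 1 then 1 else -1

theorem e_symm (a x : E) : e a x = e x a := by
  unfold e
  simp only [eq_comm]

variable {z : E}

theorem ne_z (B : Bas E z) (x : E) : x * z ≠ x := fun h => B.ne (by
  have := congrArg (fun y => x⁻¹ * y) h
  simpa using this)

theorem e_mul (B : Bas E z) (a x y : E) : e a (x * y) = e a x * e a y := by
  have h1 := B.com a x
  have h2 := B.com a y
  have hz := B.cen
  have key : ∀ u : E, u * z * z = u := fun u => by rw [mul_assoc, B.sq, mul_one]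
  rcases h1 with h1 | h1 <;> rcases h2 with h2 | h2
  · have h3 : a * (x * y) = x * y * a := by rw [← mul_assoc, h1, mul_assoc, h2, mul_assoc]
    simp [e, h1, h2, h3]
  · have h3 : a * (x * y) = x * y * a * z := by
      rw [← mul_assoc, h1, mul_assoc, h2]; simp only [mul_assoc]
    have h4 : a * (x * y) ≠ x * y * a := by rw [h3]; exact ne_z B _
    have h5 : a * y ≠ y * a := by rw [h2]; exact ne_z B _
    simp [e, h1, h4, h5]
  · have h3 : a * (x * y) = x * y * a * z := by
      rw [← mul_assoc, h1]
      calc x * a * z * y = x * a * (z * y) := by simp only [mul_assoc]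
        _ = x * a * (y * z) := by rw [hz]
        _ = x * (a * y) * z := by simp only [mul_assoc]
        _ = x * (y * a) * z := by rw [h2]
        _ = x * y * a * z := by simp only [mul_assoc]
    have h4 : a * (x * y) ≠ x * y * a := by rw [h3]; exact ne_z B _
    have h5 : a * x ≠ x * a := by rw [h1]; exact ne_z B _
    simp [e, h2, h4, h5]
  · have h3 : a * (x * y) = x * y * a := by
      rw [← mul_assoc, h1]
      calc x * a * z * y = x * a * (z * y) := by simp only [mul_assoc]
        _ = x * a * (y * z) := by rw [hz]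
        _ = x * (a * y) * z := by simp only [mul_assoc]
        _ = x * (y * a * z) * z := by rw [h2]
        _ = x * y * a * z * z := by simp only [mul_assoc]
        _ = x * y * a := key _
    have h4 : a * x ≠ x * a := by rw [h1]; exact ne_z B _
    have h5 : a * y ≠ y * a := by rw [h2]; exact ne_z B _
    simp [e, h3, h4, h5]

theorem c_mul (B : Bas E z) {x a : E} (ha : a * a = 1) : c (x * a) = c x * e a x := by
  have key : ∀ u : E, u * z * z = u := fun u => by rw [mul_assoc, B.sq, mul_one]
  rcases B.com a x with h1 | h1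
  · have h2 : x * a * (x * a) = x * x := by
      calc x * a * (x * a) = x * (a * x) * a := by simp only [mul_assoc]
        _ = x * (x * a) * a := by rw [h1]
        _ = x * x * (a * a) := by simp only [mul_assoc]
        _ = x * x := by rw [ha, mul_one]
    simp [c, e, h1, h2]
  · have h2 : x * a * (x * a) = x * x * z := by
      calc x * a * (x * a) = x * (a * x) * a := by simp only [mul_assoc]
        _ = x * (x * a * z) * a := by rw [h1]
        _ = x * x * a * (z * a) := by simp only [mul_assoc]
        _ = x * x * a * (a * z) := by rw [B.cen]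
        _ = x * x * (a * a) * z := by simp only [mul_assoc]
        _ = x * x * z := by rw [ha, mul_one]
    have h5 : a * x ≠ x * a := by rw [h1]; exact ne_z B _
    rcases B.two x with h3 | h3
    · simp [c, e, h2, h3, h5, B.ne]
    · simp [c, e, h2, h3, h5, B.ne, B.sq]

variable [Fintype E]

theorem sum_e_center (B : Bas E z) {a : E} (ha : a = 1 ∨ a = z) : ∑ x : E, e a x = Fintype.card E := by
  have : ∀ x : E, e a x = 1 := by
    intro x
    unfold e
    rw [if_pos]
    rcases ha with rfl | rfl
    · rw [one_mul, mul_one]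
    · exact B.cen x
  rw [Finset.sum_congr rfl fun x _ => this x]
  simp

theorem sum_e_noncentral (B : Bas E z) {a : E} (ha : a ≠ 1) (ha' : a ≠ z) : ∑ x : E, e a x = 0 := by
  obtain ⟨y, hy⟩ : ∃ y, a * y ≠ y * a := by
    by_contra hcon
    push Not at hcon
    rcases B.mem a hcon with h | h
    · exact ha h
    · exact ha' h
  have h1 : ∑ x : E, e a (x * y) = ∑ x : E, e a x :=
    Fintype.sum_equiv (Equiv.mulRight y) _ _ fun x => rfl
  have h2 : ∑ x : E, e a (x * y) = - ∑ x : E, e a x := by
    rw [← Finset.sum_neg_distrib]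
    refine Finset.sum_congr rfl fun x _ => ?_
    rw [e_mul B]
    have : e a y = -1 := by simp [e, hy]
    rw [this]; ring
  linarith

theorem sum_A (B : Bas E z) (A : Subgroup E) (x : E) (hx : ∃ a ∈ A, a * x ≠ x * a) :
    ∑ a : A, e (a : E) x = 0 := by
  obtain ⟨y, hyA, hy⟩ := hx
  have h1 : ∑ a : A, e ((a * ⟨y, hyA⟩ : A) : E) x = ∑ a : A, e (a : E) x :=
    Fintype.sum_equiv (Equiv.mulRight (⟨y, hyA⟩ : A)) _ _ fun x => rfl
  have h2 : ∑ a : A, e ((a * ⟨y, hyA⟩ : A) : E) x = - ∑ a : A, e (a : E) x := by
    rw [← Finset.sum_neg_distrib]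
    refine Finset.sum_congr rfl fun a _ => ?_
    rw [e_symm, Subgroup.coe_mul, e_mul B]
    have : e x y = -1 := by
      have : ¬ (x * y = y * x) := fun h => hy h.symm
      simp [e, this]
    rw [this, e_symm]; ring
  linarith

theorem sum_A' (A : Subgroup E) (x : E) (hx : ∀ a ∈ A, a * x = x * a) :
    ∑ a : A, e (a : E) x = Nat.card A := by
  have : ∀ a : A, e (a : E) x = 1 := by
    intro a
    simp [e, hx a a.2]
  rw [Finset.sum_congr rfl fun a _ => this a]
  simp

/-- `|C(A)| |A| ≤ 2 |E|` -/
theorem card_cent_le (B : Bas E z) (A : Subgroup E) :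
    Nat.card (centralizer (A : Set E)) * Nat.card A ≤ 2 * Nat.card E := by
  have h1 : ∑ a : A, ∑ x : E, e (a : E) x ≤ 2 * Nat.card E := by
    have h2 : ∀ a : A, ∑ x : E, e (a : E) x ≤ if ((a : E) = 1 ∨ (a : E) = z) then (Fintype.card E : ℤ) else 0 := by
      intro a
      split_ifs with h
      · exact (sum_e_center B h).le
      · push Not at h
        exact (sum_e_noncentral B h.1 h.2).le
    refine (Finset.sum_le_sum fun a _ => h2 a).trans ?_
    rw [← Finset.sum_filter, Finset.sum_const, nsmul_eq_mul]
    have h3 : (Finset.filter (fun a : A => ((a : E) = 1 ∨ (a : E) = z)) univ).card ≤ 2 := by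
      have h4 : ((Finset.filter (fun a : A => ((a : E) = 1 ∨ (a : E) = z)) univ).image (Subtype.val)).card ≤
          ({1, z} : Finset E).card := by
        apply Finset.card_le_card
        intro x hx
        rw [Finset.mem_image] at hx
        obtain ⟨a, ha, rfl⟩ := hx
        rw [Finset.mem_filter] at ha
        simpa using ha.2
      rw [Finset.card_image_of_injective _ Subtype.val_injective] at h4
      exact h4.trans Finset.card_le_two
    have h5 : (0 : ℤ) ≤ Fintype.card E := by positivity
    have h6 : ((Finset.filter (fun a : A => ((a : E) = 1 ∨ (a : E) = z)) univ).card : ℤ) ≤ 2 := by exact_mod_cast h3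
    rw [Nat.card_eq_fintype_card]
    exact mul_le_mul_of_nonneg_right h6 h5
  rw [Finset.sum_comm] at h1
  have h2 : ∀ x : E, ∑ a : A, e (a : E) x = if x ∈ centralizer (A : Set E) then (Nat.card A : ℤ) else 0 := by
    intro x
    split_ifs with h
    · exact sum_A' A x fun a ha => (mem_centralizer_iff.1 h a ha)
    · apply sum_A B
      by_contra hcon
      push Not at hcon
      exact h (mem_centralizer_iff.2 fun a ha => hcon a ha)
  rw [Finset.sum_congr rfl fun x _ => h2 x, ← Finset.sum_filter, Finset.sum_const, nsmul_eq_mul] at h1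
  have h3 : ((univ : Finset E).filter fun x => x ∈ centralizer (A : Set E)).card = Nat.card (centralizer (A : Set E)) := by
    rw [Nat.card_eq_fintype_card, Fintype.card_subtype]
  rw [h3] at h1
  exact_mod_cast h1

theorem sum_c (B : Bas E z) (A : Subgroup E) (hA : ∀ a ∈ A, a * a = 1) :
    (Nat.card A : ℤ) * ∑ x : E, c x = Nat.card A * ∑ x : E, if x ∈ centralizer (A : Set E) then c x else 0 := by
  have h1 : ∑ a : A, ∑ x : E, c (x * (a : E)) = (Nat.card A : ℤ) * ∑ x : E, c x := by
    have : ∀ a : A, ∑ x : E, c (x * (a : E)) = ∑ x : E, c x := fun a =>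
      Fintype.sum_equiv (Equiv.mulRight (a : E)) _ _ fun x => rfl
    rw [Finset.sum_congr rfl fun a _ => this a, Finset.sum_const, nsmul_eq_mul, Finset.card_univ,
      Nat.card_eq_fintype_card]
  rw [← h1, Finset.sum_comm, Finset.mul_sum]
  refine Finset.sum_congr rfl fun x _ => ?_
  rw [Finset.sum_congr rfl fun (a : A) _ => c_mul B (x := x) (hA a a.2), ← Finset.mul_sum]
  split_ifs with h
  · rw [sum_A' A x fun a ha => (mem_centralizer_iff.1 h a ha)]
    ring
  · rw [sum_A B A x, mul_zero, mul_zero]
    by_contra hcon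
    push Not at hcon
    exact h (mem_centralizer_iff.2 fun a ha => hcon a ha)

omit [Fintype E] in
theorem orderOf_four (B : Bas E z) (x : E) : orderOf x = 4 ↔ x * x ≠ 1 := by
  constructor
  · intro h h1
    have h2 : orderOf x ∣ 2 := orderOf_dvd_of_pow_eq_one (by rw [pow_two]; exact h1)
    rw [h] at h2
    norm_num at h2
  · intro h
    have h2 := (B.two x).resolve_left h
    have h3 : x ^ 4 = 1 := by
      have : x ^ 4 = (x * x) * (x * x) := by
        rw [show (4 : ℕ) = 2 + 2 by norm_num, pow_add, pow_two]
      rw [this, h2, B.sq]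
    have h4 : ¬ x ^ 2 = 1 := by rw [pow_two]; exact h
    exact orderOf_eq_prime_pow (p := 2) (n := 1) (by simpa using h4) (by simpa using h3)

/-- **the number of elements of order 4** -/
theorem count (m : ℕ) (B : Bas E z) (hcard : Nat.card E = 2 ^ (2 * m + 1)) (A : Subgroup E)
    (hAc : ∀ a ∈ A, ∀ b ∈ A, a * b = b * a) (hA : ∀ a ∈ A, a * a = 1) (hcA : Nat.card A = 2 ^ (m + 1)) :
    Nat.card {x : E // orderOf x = 4} = 2 ^ (2 * m) - 2 ^ m := by
  have hle : A ≤ centralizer (A : Set E) := fun a ha => mem_centralizer_iff.2 fun b hb => hAc b hb a ha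
  have hC : A = centralizer (A : Set E) := by
    apply Subgroup.eq_of_le_of_card_ge hle
    have h1 := card_cent_le B A
    rw [hcard, hcA] at h1
    rw [hcA]
    have h2 : 2 * 2 ^ (2 * m + 1) = 2 ^ (m + 1) * 2 ^ (m + 1) := by
      rw [← pow_add, ← pow_succ']
      congr 1; ring
    rw [h2] at h1
    exact Nat.le_of_mul_le_mul_right h1 (by positivity)
  have h1 := sum_c B A hA
  rw [← hC] at h1
  have h2 : ∑ x : E, (if x ∈ A then c x else 0) = Nat.card A := by
    rw [← Finset.sum_filter]
    have : ∀ x ∈ (univ : Finset E).filter (fun x => x ∈ A), c x = 1 := by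
      intro x hx
      rw [Finset.mem_filter] at hx
      simp [c, hA x hx.2]
    rw [Finset.sum_congr rfl this]
    simp only [Finset.sum_const, nsmul_eq_mul, mul_one]
    rw [Nat.card_eq_fintype_card, Fintype.card_subtype]
  rw [h2] at h1
  have hpos : (0 : ℤ) < Nat.card A := by
    have : 0 < Nat.card A := Nat.card_pos
    exact_mod_cast this
  have h3 : ∑ x : E, c x = Nat.card A := mul_left_cancel₀ hpos.ne' h1
  -- split
  have h4 : ∑ x : E, c x = (((univ : Finset E).filter fun x => x * x = 1).card : ℤ) -
      ((univ : Finset E).filter fun x => ¬ x * x = 1).card := by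
    unfold c
    rw [Finset.sum_ite]
    simp
    ring
  have h5 : ((univ : Finset E).filter fun x => x * x = 1).card +
      ((univ : Finset E).filter fun x => ¬ x * x = 1).card = Nat.card E := by
    rw [Finset.card_filter_add_card_filter_not, Finset.card_univ, Nat.card_eq_fintype_card]
  have h6 : Nat.card {x : E // orderOf x = 4} = ((univ : Finset E).filter fun x => ¬ x * x = 1).card := by
    rw [Nat.card_eq_fintype_card, Fintype.card_subtype]
    congr 1
    ext x
    simp only [Finset.mem_filter, Finset.mem_univ, true_and]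
    exact orderOf_four B x
  rw [h6]
  set N1 := ((univ : Finset E).filter fun x => x * x = 1).card
  set N4 := ((univ : Finset E).filter fun x => ¬ x * x = 1).card
  rw [h3, hcA] at h4
  rw [hcard] at h5
  have e1 : 2 ^ (2 * m + 1) = 2 * 2 ^ (2 * m) := pow_succ' 2 _
  have e2 : 2 ^ (m + 1) = 2 * 2 ^ m := pow_succ' 2 _
  have h7 : (2 : ℤ) ^ (m + 1) = 2 * 2 ^ m := pow_succ' 2 _
  push_cast at h4
  rw [h7] at h4
  have h8 : (N1 : ℤ) + N4 = 2 * 2 ^ (2 * m) := by
    have : ((N1 + N4 : ℕ) : ℤ) = ((2 ^ (2 * m + 1) : ℕ) : ℤ) := by rw [h5]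
    push_cast at this
    rw [this, pow_succ']
  have h9 : (N4 : ℤ) = 2 ^ (2 * m) - 2 ^ m := by linarith
  have h10 : (2 : ℕ) ^ m ≤ 2 ^ (2 * m) := Nat.pow_le_pow_right (by norm_num) (by omega)
  zify [h10]
  exact h9

end Cfsg.Agent.H235.ExtraCount
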