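import Cfsg.Agent.H87.TitsAbs

/-!
# The Tits group has no proper subgroup of index less than 42 (helper235), abstract part

Only the order, the classes of elements of orders 3 and 5 and the centralizers of elements of orders 5 and 13 are used.
-/

set_option autoImplicit false

namespace Cfsg.Agent.H235.TitsIdx

open MulAction Subgroup

universe u v

section fix

variable {G : Type u} [Group G] [Finite G] {Ω : Type v} [MulAction G Ω] [IsPretransitive G Ω] {p : ℕ} [Fact p.Prime]

/-- The normaliser of a Sylow subgroup is transitive on its fixed points. -/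
theorem exists_norm (P : Sylow p G) {ω ω' : Ω} (h : ∀ g ∈ (P : Subgroup G), g • ω = ω)
    (h' : ∀ g ∈ (P : Subgroup G), g • ω' = ω') : ∃ n ∈ normalizer ((P : Subgroup G) : Set G), n • ω = ω' := by
  obtain ⟨g, hg⟩ := MulAction.exists_smul_eq G ω ω'
  have h1 : (P : Subgroup G) ≤ stabilizer G ω := fun x hx => h x hx
  have h2 : ((g⁻¹ • P : Sylow p G) : Subgroup G) ≤ stabilizer G ω := by
    intro x hx
    rw [Sylow.coe_subgroup_smul] at hx
    obtain ⟨y, hy, rfl⟩ := hx
    have hy' : y ∈ (P : Subgroup G) := hy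
    show (g⁻¹ * y * g⁻¹⁻¹) • ω = ω
    rw [inv_inv, mul_smul, mul_smul, hg, h' y hy', ← hg, inv_smul_smul]
  obtain ⟨s, hs⟩ := MulAction.exists_smul_eq (stabilizer G ω) (P.subtype h1) ((g⁻¹ • P : Sylow p G).subtype h2)
  rw [Sylow.smul_subtype] at hs
  have hs' : (s : G) • P = g⁻¹ • P := Sylow.subtype_injective hs
  refine ⟨g * s, ?_, ?_⟩
  · have h3 : (g * (s : G)) • P = P := by rw [mul_smul, hs', smul_inv_smul]
    exact Sylow.smul_eq_iff_mem_normalizer.1 h3
  · rw [mul_smul, show (s : G) • ω = ω from s.2, hg]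

/-- the number of fixed points of a Sylow subgroup -/
theorem card_fix (P : Sylow p G) (ω : Ω) (h : ∀ g ∈ (P : Subgroup G), g • ω = ω) :
    Nat.card (fixedPoints (P : Subgroup G) Ω) *
      Nat.card ↥((stabilizer G ω).subgroupOf (normalizer ((P : Subgroup G) : Set G))) =
      Nat.card ↥(normalizer ((P : Subgroup G) : Set G)) := by
  set N := normalizer ((P : Subgroup G) : Set G) with hN
  have e1 : (stabilizer G ω).subgroupOf N = stabilizer N ω := by
    ext x
    rfl
  have e2 : fixedPoints (P : Subgroup G) Ω = orbit N ω := by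
    ext w
    constructor
    · intro hw
      obtain ⟨n, hn, hnw⟩ := exists_norm P h (fun g hg => hw ⟨g, hg⟩)
      exact ⟨⟨n, hn⟩, hnw⟩
    · rintro ⟨n, rfl⟩ g
      show (g : G) • ((n : G) • ω) = (n : G) • ω
      have h1 : (n : G)⁻¹ * g * n ∈ (P : Subgroup G) := (mem_normalizer_iff''.1 n.2 g).1 g.2
      have h2 := h _ h1
      rw [← mul_smul, show (g : G) * n = n * ((n : G)⁻¹ * g * n) by group, mul_smul, h2]
  rw [e1, e2]
  have h3 := (stabilizer N ω).card_mul_index
  rw [index_stabilizer] at h3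
  rw [mul_comm, ← h3]
  rfl

theorem card_fix_dvd (P : Sylow p G) : Nat.card (fixedPoints (P : Subgroup G) Ω) ∣
    Nat.card ↥(normalizer ((P : Subgroup G) : Set G)) ∨ Nat.card (fixedPoints (P : Subgroup G) Ω) = 0 := by
  by_cases h : (fixedPoints (P : Subgroup G) Ω).Nonempty
  · obtain ⟨ω, hω⟩ := h
    exact Or.inl ⟨_, (card_fix P ω fun g hg => hω ⟨g, hg⟩).symm⟩
  · right
    rw [Set.not_nonempty_iff_eq_empty.1 h]
    simp

end fix

theorem card_subgroupOf_dvd {G : Type u} [Group G] [Finite G] (C N : Subgroup G) :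
    Nat.card ↥(C.subgroupOf N) ∣ Nat.card C :=
  Subgroup.card_dvd_of_injective (N.subtype.subgroupComap C) fun a b h =>
    Subtype.ext (Subtype.ext (congrArg (fun x : C => (x : G)) h))

theorem dvd_chk : (Nat.divisors 4212).filter (fun m => 17971200 % m = 0 ∧ m % 4 = 0 ∧ m % 13 = 0 ∧
    (17971200 / m) % 13 = 1) = ∅ := by
  decide +kernel

/-- the facts -/
structure Facts (G : Type u) [Group G] : Prop where
  card : Nat.card G = 17971200
  dat : Nonempty (H87.TitsAbs.Dat G)
  one : ∀ x y : G, orderOf x = 5 → orderOf y = 5 → IsConj x y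
  cent : ∀ y : G, orderOf y = 5 → Nat.card ↥(centralizer ({y} : Set G)) = 50
  exp : ∀ y : G, y ^ 25 = 1 → y ^ 5 = 1
  na : ∀ x t : G, orderOf x = 13 → orderOf t = 2 → x * t ≠ t * x


namespace Facts

variable {G : Type u} [Group G] [Finite G] (F : Facts G) {Ω : Type v} [Fintype Ω] [MulAction G Ω]
  [FaithfulSMul G Ω]

theorem fx_lt {g : G} (hg : g ≠ 1) : Nat.card (fixedBy Ω g) < Nat.card Ω := by
  have h1 : Nat.card (fixedBy Ω g) ≤ Nat.card Ω :=
    Nat.card_le_card_of_injective (fun w : fixedBy Ω g => (w : Ω)) Subtype.val_injective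
  refine lt_of_le_of_ne h1 fun h => hg ?_
  apply FaithfulSMul.eq_of_smul_eq_smul (α := Ω)
  intro w
  rw [one_smul]
  have h2 : fixedBy Ω g = Set.univ := by
    apply Set.eq_of_subset_of_ncard_le (Set.subset_univ _)
    rw [Set.ncard_univ, ← h]
    exact (Nat.card_coe_set_eq _).le
  have h3 : w ∈ fixedBy Ω g := by rw [h2]; trivial
  exact h3

theorem fixedPoints_lt {P : Subgroup G} (hP : P ≠ ⊥) : Nat.card (fixedPoints P Ω) < Nat.card Ω := by
  obtain ⟨g, hg, h1⟩ := P.bot_or_exists_ne_one.resolve_left hP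
  refine lt_of_le_of_lt ?_ (fx_lt (Ω := Ω) h1)
  apply Nat.card_le_card_of_injective (fun w : fixedPoints P Ω => (⟨w, w.2 ⟨g, hg⟩⟩ : fixedBy Ω g))
  intro a b hab
  exact Subtype.ext (congrArg (fun x : fixedBy Ω g => (x : Ω)) hab)

include F in
theorem mod27 (h : Nat.card Ω < 42) : 27 ≤ Nat.card Ω := by
  obtain ⟨D⟩ := F.dat
  obtain ⟨k, hk⟩ := D.burnside (Ω := Ω)
  have hlt := D.fx_lt (Ω := Ω)
  rw [← Nat.card_eq_fintype_card] at hk hlt
  omega

/-! ### the prime 13 -/

section thirteen

variable (D : H87.TitsAbs.Dat G)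

omit [Finite G] in
theorem order_x : orderOf D.x = 13 := by
  have : Fact (Nat.Prime 13) := ⟨by norm_num⟩
  exact orderOf_eq_prime D.x13 D.x1

include F in
theorem exists_sylow_x : ∃ P : Sylow 13 G, (P : Subgroup G) = zpowers D.x := by
  have : Fact (Nat.Prime 13) := ⟨by norm_num⟩
  have hc : Nat.card (zpowers D.x) = 13 := by rw [Nat.card_zpowers, order_x D]
  have hp : IsPGroup 13 (zpowers D.x) := IsPGroup.of_card (n := 1) (by rw [hc, pow_one])
  have hi : ¬ 13 ∣ (zpowers D.x).index := by
    have h1 := (zpowers D.x).card_mul_index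
    rw [hc, F.card] at h1
    have h2 : (zpowers D.x).index = 1382400 := by omega
    rw [h2]; norm_num
  exact ⟨hp.toSylow hi, rfl⟩

include F in
theorem not_four {P : Sylow 13 G} (hP : (P : Subgroup G) = zpowers D.x) :
    ¬ 4 ∣ Nat.card ↥(normalizer ((P : Subgroup G) : Set G)) := by
  have f13 : Fact (Nat.Prime 13) := ⟨by norm_num⟩
  have f2 : Fact (Nat.Prime 2) := ⟨by norm_num⟩
  have f5 : Fact (Nat.Prime 5) := ⟨by norm_num⟩
  intro h4
  have hx := order_x D
  have hxP : D.x ∈ (P : Subgroup G) := by rw [hP]; exact mem_zpowers _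
  have hcP : Nat.card (P : Subgroup G) = 13 := by rw [hP, Nat.card_zpowers, hx]
  set C := centralizer ((P : Subgroup G) : Set G) with hC
  set N := normalizer ((P : Subgroup G) : Set G) with hN
  -- the centralizer
  have hC2 : ¬ 2 ∣ Nat.card C := by
    intro h
    obtain ⟨t, ht⟩ := exists_prime_orderOf_dvd_card' (G := C) 2 h
    have h1 := mem_centralizer_iff.1 t.2 D.x hxP
    exact F.na D.x t hx (by rw [Subgroup.orderOf_coe, ht]) h1
  have hC5 : ¬ 5 ∣ Nat.card C := by
    intro h
    obtain ⟨y, hy⟩ := exists_prime_orderOf_dvd_card' (G := C) 5 h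
    have h1 := mem_centralizer_iff.1 y.2 D.x hxP
    have h2 := F.cent y (by rw [Subgroup.orderOf_coe, hy])
    have h3 : D.x ∈ centralizer ({(y : G)} : Set G) := mem_centralizer_singleton_iff.2 h1
    have h4 := Subgroup.orderOf_dvd_natCard _ h3
    rw [h2, hx] at h4
    revert h4; norm_num
  have hCd : Nat.card C ∣ 351 := by
    have h1 : Nat.card C ∣ 17971200 := by rw [← F.card]; exact C.card_subgroup_dvd_card
    have h2 : Nat.Coprime (Nat.card C) (2 ^ 11 * 5 ^ 2) :=
      Nat.Coprime.mul_right (Nat.Coprime.pow_right _ ((Nat.Prime.coprime_iff_not_dvd Nat.prime_two).2 hC2).symm)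
        (Nat.Coprime.pow_right _ ((Nat.Prime.coprime_iff_not_dvd Nat.prime_five).2 hC5).symm)
    refine h2.dvd_of_dvd_mul_left ?_
    exact h1
  have hcyc : IsCyclic (P : Subgroup G) := by
    rw [hP]; infer_instance
  have key : (C.subgroupOf N).index ∣ 12 := by
    have h1 := card_dvd_of_injective _ (QuotientGroup.kerLift_injective (P : Subgroup G).normalizerMonoidHom)
    rw [normalizerMonoidHom_ker, ← Subgroup.index, hcyc.card_mulAut, hcP] at h1
    have e : Nat.totient 13 = 12 := by rw [Nat.totient_prime (by norm_num)]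
    rwa [e] at h1
  have hN1 : Nat.card N ∣ 4212 := by
    rw [← (C.subgroupOf N).card_mul_index]
    exact mul_dvd_mul ((card_subgroupOf_dvd C N).trans hCd) key
  have hN2 : Nat.card N * N.index = 17971200 := by rw [← F.card]; exact N.card_mul_index
  have hN3 : N.index % 13 = 1 := by
    have h1 := card_sylow_modEq_one 13 G
    rw [P.card_eq_index_normalizer] at h1
    exact h1
  have hN4 : 13 ∣ Nat.card N := by
    rw [← hcP]
    exact Subgroup.card_dvd_of_le Subgroup.le_normalizer
  have hpos : 0 < Nat.card N := Nat.card_pos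
  have hmem : Nat.card N ∈ (Nat.divisors 4212).filter (fun m => 17971200 % m = 0 ∧ m % 4 = 0 ∧ m % 13 = 0 ∧
      (17971200 / m) % 13 = 1) := by
    rw [Finset.mem_filter, Nat.mem_divisors]
    refine ⟨⟨hN1, by norm_num⟩, ?_, Nat.mod_eq_zero_of_dvd h4, Nat.mod_eq_zero_of_dvd hN4, ?_⟩
    · rw [← hN2]; exact Nat.mul_mod_right _ _
    · rw [← hN2, Nat.mul_div_cancel_left _ hpos, hN3]
  rw [dvd_chk] at hmem
  exact absurd hmem (Finset.notMem_empty _)

include F in
/-- the fixed points of the Sylow 13-subgroup -/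
theorem fix13 [IsPretransitive G Ω] {P : Sylow 13 G} (hP : (P : Subgroup G) = zpowers D.x) :
    Nat.card (fixedPoints (P : Subgroup G) Ω) < Nat.card Ω ∧
      Nat.card (fixedPoints (P : Subgroup G) Ω) % 13 = Nat.card Ω % 13 := by
  have f13 : Fact (Nat.Prime 13) := ⟨by norm_num⟩
  refine ⟨fixedPoints_lt ?_, ?_⟩
  · intro h
    have h1 : D.x ∈ (P : Subgroup G) := by rw [hP]; exact mem_zpowers _
    rw [h, Subgroup.mem_bot] at h1
    exact D.x1 h1
  · exact (P.2.card_modEq_card_fixedPoints Ω).symm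

include F in
theorem ne30 [IsPretransitive G Ω] : Nat.card Ω ≠ 30 := by
  have f13 : Fact (Nat.Prime 13) := ⟨by norm_num⟩
  intro h
  obtain ⟨D⟩ := F.dat
  obtain ⟨P, hP⟩ := F.exists_sylow_x D
  have h1 := F.fix13 (Ω := Ω) D hP
  rw [h] at h1
  have h2 := card_fix_dvd (Ω := Ω) P
  set f := Nat.card (fixedPoints (P : Subgroup G) Ω) with hf
  have h3 : f = 4 ∨ f = 17 := by omega
  rcases h2 with h2 | h2
  · rcases h3 with h3 | h3
    · rw [h3] at h2
      exact F.not_four D hP h2
    · rw [h3] at h2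
      have h4 := h2.trans (Subgroup.card_subgroup_dvd_card _)
      rw [F.card] at h4
      revert h4; norm_num
  · omega

include F in
theorem ne27 [IsPretransitive G Ω] : Nat.card Ω ≠ 27 := by
  have f13 : Fact (Nat.Prime 13) := ⟨by norm_num⟩
  have f3 : Fact (Nat.Prime 3) := ⟨by norm_num⟩
  intro h
  obtain ⟨D⟩ := F.dat
  obtain ⟨P, hP⟩ := F.exists_sylow_x D
  have h1 := F.fix13 (Ω := Ω) D hP
  rw [h] at h1
  set f := Nat.card (fixedPoints (P : Subgroup G) Ω) with hf
  have h3 : f = 1 ∨ f = 14 := by omega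
  have hne : (fixedPoints (P : Subgroup G) Ω).Nonempty := by
    by_contra hn
    rw [Set.not_nonempty_iff_eq_empty] at hn
    rw [hn] at hf
    simp at hf
    omega
  obtain ⟨ω, hω⟩ := hne
  have h4 := card_fix P ω fun g hg => hω ⟨g, hg⟩
  rw [← hf] at h4
  have h5 : Nat.card ↥(stabilizer G ω) * 27 = 17971200 := by
    have := (stabilizer G ω).card_mul_index
    rw [index_stabilizer_of_transitive, h, F.card] at this
    exact this
  have h6 : 3 ∣ Nat.card ↥(normalizer ((P : Subgroup G) : Set G)) := by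
    have ht : D.t ∈ normalizer ((P : Subgroup G) : Set G) := by
      have h7 : (P : Subgroup G).map (MulAut.conj D.t).toMonoidHom = (P : Subgroup G) := by
        apply Subgroup.eq_of_le_of_card_ge
        · rintro _ ⟨y, hy, rfl⟩
          have hy' : y ∈ zpowers D.x := by rw [← hP]; exact hy
          obtain ⟨k, rfl⟩ := mem_zpowers_iff.1 hy'
          show D.t * D.x ^ k * D.t⁻¹ ∈ (P : Subgroup G)
          rw [← conj_zpow, D.txt, hP]
          exact zpow_mem (pow_mem (mem_zpowers _) _) _
        · exact (Nat.card_congr ((P : Subgroup G).equivMapOfInjective _ (MulAut.conj D.t).injective).toEquiv).le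
      rw [mem_normalizer_iff]
      intro x
      constructor
      · intro hx
        have : (MulAut.conj D.t).toMonoidHom x ∈ (P : Subgroup G).map (MulAut.conj D.t).toMonoidHom := ⟨x, hx, rfl⟩
        rw [h7] at this
        exact this
      · intro hx
        have hx' : D.t * x * D.t⁻¹ ∈ (P : Subgroup G).map (MulAut.conj D.t).toMonoidHom := by rw [h7]; exact hx
        obtain ⟨y, hy, hyx⟩ := hx'
        have : y = x := (MulAut.conj D.t).injective hyx
        rwa [← this]
    have ho : orderOf D.t = 3 := orderOf_eq_prime D.t3 D.t1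
    rw [← ho]
    exact Subgroup.orderOf_dvd_natCard _ ht
  rw [← h4] at h6
  have h8 : ¬ 3 ∣ Nat.card ↥((stabilizer G ω).subgroupOf (normalizer ((P : Subgroup G) : Set G))) := by
    intro h9
    have h10 := h9.trans (card_subgroupOf_dvd _ _)
    have h11 : Nat.card ↥(stabilizer G ω) = 665600 := by omega
    rw [h11] at h10
    revert h10; norm_num
  rcases (Nat.Prime.dvd_mul Nat.prime_three).1 h6 with h9 | h9
  · omega
  · exact h8 h9

end thirteen

/-! ### the prime 5 -/

section five

include F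

theorem card_syl [Fact (Nat.Prime 5)] (Q : Sylow 5 G) : Nat.card (Q : Subgroup G) = 25 := by
  have h1 := Q.card_eq_multiplicity
  rw [F.card] at h1
  have h2 : (17971200 : ℕ).factorization 5 = 2 := by
    have : (17971200 : ℕ) = 5 ^ 2 * 718848 := by norm_num
    rw [this, Nat.factorization_mul (by norm_num) (by norm_num), Nat.factorization_pow, Finsupp.add_apply,
      Finsupp.smul_apply, Nat.Prime.factorization_self Nat.prime_five,
      Nat.factorization_eq_zero_of_not_dvd (by norm_num : ¬ 5 ∣ 718848)]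
    norm_num
  rw [h1, h2]; norm_num

theorem order_syl [Fact (Nat.Prime 5)] (Q : Sylow 5 G) {y : G} (hy : y ∈ (Q : Subgroup G)) (h1 : y ≠ 1) :
    orderOf y = 5 := by
  refine orderOf_eq_prime (F.exp y ?_) h1
  have h2 := Subgroup.orderOf_dvd_natCard _ hy
  rw [F.card_syl Q] at h2
  exact orderOf_dvd_iff_pow_eq_one.1 h2

theorem comm_syl [Fact (Nat.Prime 5)] (Q : Sylow 5 G) {a b : G} (ha : a ∈ (Q : Subgroup G))
    (hb : b ∈ (Q : Subgroup G)) : a * b = b * a := by
  have h1 := IsPGroup.isMulCommutative_of_card_eq_prime_sq (p := 5) (G := (Q : Subgroup G))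
    (by rw [F.card_syl Q]; norm_num)
  exact congrArg Subtype.val (h1.is_comm.comm ⟨a, ha⟩ ⟨b, hb⟩)

/-- the Sylow 5-subgroups intersect trivially -/
theorem ti [Fact (Nat.Prime 5)] (Q Q' : Sylow 5 G) {y : G} (hy : y ∈ (Q : Subgroup G))
    (hy' : y ∈ (Q' : Subgroup G)) (h1 : y ≠ 1) : Q = Q' := by
  have ho := F.order_syl Q hy h1
  have hc := F.cent y ho
  set C := centralizer ({y} : Set G) with hC
  have hQ : ∀ R : Sylow 5 G, y ∈ (R : Subgroup G) → (R : Subgroup G) ≤ C := fun R hR x hx =>
    mem_centralizer_singleton_iff.2 (F.comm_syl R hx hR)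
  have h2 : Nat.card (Sylow 5 C) ∣ 2 := by
    have h3 := (Q.subtype (hQ Q hy)).card_dvd_index
    have h4 := ((Q.subtype (hQ Q hy)) : Subgroup C).card_mul_index
    have h5 : Nat.card ((Q.subtype (hQ Q hy)) : Subgroup C) = 25 := by
      rw [← F.card_syl Q]
      exact Nat.card_congr (Subgroup.subgroupOfEquivOfLe (hQ Q hy)).toEquiv
    rw [h5, hc] at h4
    have h6 : ((Q.subtype (hQ Q hy)) : Subgroup C).index = 2 := by omega
    rwa [h6] at h3
  have h3 := card_sylow_modEq_one 5 C
  have h4 : Nat.card (Sylow 5 C) = 1 := by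
    rcases (Nat.dvd_prime Nat.prime_two).1 h2 with h | h
    · exact h
    · rw [h] at h3
      exact absurd h3 (by decide)
  have h5 := (Nat.card_eq_one_iff_unique.1 h4).1
  exact Sylow.subtype_injective (h5.elim (Q.subtype (hQ Q hy)) (Q'.subtype (hQ Q' hy')))

omit [Fintype Ω] [FaithfulSMul G Ω] in
theorem fix_eq {a b : G} (ha : orderOf a = 5) (hb : orderOf b = 5) :
    Nat.card (fixedBy Ω a) = Nat.card (fixedBy Ω b) :=
  H87.TitsAbs.Dat.fx_conj (F.one a b ha hb)

omit [FaithfulSMul G Ω] in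
/-- Burnside's count for a Sylow 5-subgroup -/
theorem burn5 [Fact (Nat.Prime 5)] (Q : Sylow 5 G) {y : G} (hy : orderOf y = 5) :
    ∃ k, Nat.card Ω + 24 * Nat.card (fixedBy Ω y) = 25 * k := by
  classical
  have := Fintype.ofFinite (Q : Subgroup G)
  have h := MulAction.sum_card_fixedBy_eq_card_orbits_mul_card_group (Q : Subgroup G) Ω
  rw [← Nat.card_eq_fintype_card (α := (Q : Subgroup G)), F.card_syl Q] at h
  refine ⟨Fintype.card (Quotient (orbitRel (Q : Subgroup G) Ω)), ?_⟩
  rw [mul_comm 25, ← h, ← Finset.sum_erase_add _ _ (Finset.mem_univ (1 : (Q : Subgroup G)))]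
  have e1 : Fintype.card (fixedBy Ω (1 : (Q : Subgroup G))) = Nat.card Ω := by
    rw [← Nat.card_eq_fintype_card, fixedBy_one_eq_univ, Nat.card_coe_set_eq, Set.ncard_univ]
  have e2 : ∀ r ∈ Finset.univ.erase (1 : (Q : Subgroup G)), Fintype.card (fixedBy Ω r) = Nat.card (fixedBy Ω y) := by
    intro r hr
    have hr1 : (r : G) ≠ 1 := fun h => (Finset.mem_erase.1 hr).1 (Subtype.ext h)
    rw [← Nat.card_eq_fintype_card, ← F.fix_eq (F.order_syl Q r.2 hr1) hy]
    rfl
  rw [Finset.sum_congr rfl e2, e1, Finset.sum_const, Finset.card_erase_of_mem (Finset.mem_univ _), Finset.card_univ,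
    ← Nat.card_eq_fintype_card (α := (Q : Subgroup G)), F.card_syl Q, smul_eq_mul, add_comm]

theorem fix5 [Fact (Nat.Prime 5)] (h1 : 27 ≤ Nat.card Ω) (h2 : Nat.card Ω < 42) {y : G} (hy : orderOf y = 5) :
    Nat.card (fixedBy Ω y) + 25 = Nat.card Ω := by
  obtain ⟨Q⟩ : Nonempty (Sylow 5 G) := inferInstance
  obtain ⟨k, hk⟩ := F.burn5 (Ω := Ω) Q hy
  have hy1 : y ≠ 1 := by
    rintro rfl
    rw [orderOf_one] at hy
    omega
  have h3 := fx_lt (Ω := Ω) hy1
  omega

/-- if `25` divides the order of the stabilisers, the elements of order five fix the fixed points of the Sylow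
subgroup -/
theorem case_dvd [Fact (Nat.Prime 5)] [IsPretransitive G Ω] (h1 : 27 ≤ Nat.card Ω) (h2 : Nat.card Ω < 42)
    (h5 : ¬ 5 ∣ Nat.card Ω) : Nat.card Ω - 25 ∣ 17971200 := by
  obtain ⟨Q⟩ : Nonempty (Sylow 5 G) := inferInstance
  have hQ : (Q : Subgroup G) ≠ ⊥ := by
    intro h
    have := F.card_syl Q
    rw [h, Subgroup.card_bot] at this
    omega
  obtain ⟨y, hy, hy1⟩ := (Q : Subgroup G).bot_or_exists_ne_one.resolve_left hQ
  have ho := F.order_syl Q hy hy1
  have hf := F.fix5 (Ω := Ω) h1 h2 ho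
  have key : fixedBy Ω y = fixedPoints (Q : Subgroup G) Ω := by
    ext ω
    constructor
    · intro hω
      -- a Sylow 5-subgroup of the stabiliser containing `y`
      have hyS : y ∈ stabilizer G ω := hω
      have hp : IsPGroup 5 (zpowers (⟨y, hyS⟩ : stabilizer G ω)) := by
        apply IsPGroup.of_card (n := 1)
        rw [Nat.card_zpowers, ← Subgroup.orderOf_coe, ho, pow_one]
      obtain ⟨R, hR⟩ := hp.exists_le_sylow
      have hR1 : IsPGroup 5 ((R : Subgroup (stabilizer G ω)).map (stabilizer G ω).subtype) := R.2.map _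
      obtain ⟨Q', hQ'⟩ := hR1.exists_le_sylow
      have hidx : ¬ 5 ∣ ((R : Subgroup (stabilizer G ω)).map (stabilizer G ω).subtype).index := by
        rw [Subgroup.index_map_subtype]
        intro h
        rcases (Nat.Prime.dvd_mul Nat.prime_five).1 h with h | h
        · exact R.not_dvd_index h
        · rw [index_stabilizer_of_transitive] at h
          exact h5 h
      have hyQ' : y ∈ (Q' : Subgroup G) := hQ' ⟨⟨y, hyS⟩, hR (mem_zpowers _), rfl⟩
      have hQQ := F.ti Q Q' hy hyQ' hy1
      have hle : (Q' : Subgroup G) ≤ stabilizer G ω := by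
        have h6 : ((R : Subgroup (stabilizer G ω)).map (stabilizer G ω).subtype) = (Q' : Subgroup G) :=
          (hR1.toSylow hidx).3 Q'.2 hQ' |>.symm
        rw [← h6]
        rintro _ ⟨r, -, rfl⟩
        exact r.2
      rw [hQQ]
      rintro ⟨g, hg⟩
      exact hle hg
    · intro hω
      exact hω ⟨y, hy⟩
  have h7 : Nat.card (fixedPoints (Q : Subgroup G) Ω) = Nat.card Ω - 25 := by
    rw [← key]; omega
  rcases card_fix_dvd (Ω := Ω) Q with h8 | h8
  · rw [h7] at h8
    have h9 := h8.trans (Subgroup.card_subgroup_dvd_card _)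
    rwa [F.card] at h9
  · omega

theorem ne40 [Fact (Nat.Prime 5)] [IsPretransitive G Ω] : Nat.card Ω ≠ 40 := by
  intro h
  obtain ⟨Q⟩ : Nonempty (Sylow 5 G) := inferInstance
  have hcQ := F.card_syl Q
  have hQ : (Q : Subgroup G) ≠ ⊥ := by
    intro h
    rw [h, Subgroup.card_bot] at hcQ
    omega
  obtain ⟨y, hy, hy1⟩ := (Q : Subgroup G).bot_or_exists_ne_one.resolve_left hQ
  have ho := F.order_syl Q hy hy1
  -- an element outside `zpowers y`
  obtain ⟨z, hz, hzy⟩ : ∃ z ∈ (Q : Subgroup G), z ∉ zpowers y := by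
    by_contra hn
    push Not at hn
    have h1 : (Q : Subgroup G) ≤ zpowers y := hn
    have h2 := Subgroup.card_le_of_le h1
    rw [hcQ, Nat.card_zpowers, ho] at h2
    omega
  have hz1 : z ≠ 1 := fun h => hzy (h ▸ one_mem _)
  -- no common fixed points
  have disj : ∀ u v : G, u ∈ (Q : Subgroup G) → v ∈ (Q : Subgroup G) → u ≠ 1 → v ∉ zpowers u →
      Disjoint (fixedBy Ω u) (fixedBy Ω v) := by
    intro u v hu hv hu1 hvu
    rw [Set.disjoint_left]
    intro ω h1 h2
    have hou := F.order_syl Q hu hu1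
    set K := (Q : Subgroup G) ⊓ stabilizer G ω with hK
    have h3 : zpowers u ≤ K := by
      rw [zpowers_le]
      exact ⟨hu, h1⟩
    have h4 : v ∈ K := ⟨hv, h2⟩
    have h5 : Nat.card K ∣ 5 ^ 2 := by
      have := Subgroup.card_dvd_of_le (inf_le_left : K ≤ (Q : Subgroup G))
      rw [hcQ] at this
      exact this
    obtain ⟨k, hk, hk'⟩ := (Nat.dvd_prime_pow Nat.prime_five).1 h5
    have h6 : Nat.card K ≠ 5 := by
      intro h7
      apply hvu
      have h8 : zpowers u = K := Subgroup.eq_of_le_of_card_ge h3 (by rw [h7, Nat.card_zpowers, hou])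
      rw [h8]; exact h4
    have h7 : 5 ∣ Nat.card K := by
      have := Subgroup.card_dvd_of_le h3
      rwa [Nat.card_zpowers, hou] at this
    have h8 : Nat.card K = 25 := by
      interval_cases k
      · rw [hk'] at h7; norm_num at h7
      · exact absurd (by rw [hk']; norm_num) h6
      · rw [hk']; norm_num
    have h9 : 25 ∣ Nat.card (stabilizer G ω) := by
      rw [← h8]
      exact Subgroup.card_dvd_of_le inf_le_right
    have h10 : Nat.card ↥(stabilizer G ω) * 40 = 17971200 := by
      have := (stabilizer G ω).card_mul_index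
      rw [index_stabilizer_of_transitive, h, F.card] at this
      exact this
    omega
  have hyz1 : y * z ≠ 1 := by
    intro h1
    apply hzy
    have : z = y⁻¹ := (inv_eq_of_mul_eq_one_right h1).symm
    rw [this]
    exact inv_mem (mem_zpowers _)
  have hyz : y * z ∉ zpowers y := by
    intro h1
    apply hzy
    have := mul_mem (inv_mem (mem_zpowers y)) h1
    rwa [inv_mul_cancel_left] at this
  have hzyz : y * z ∉ zpowers z := by
    intro h1
    have h2 : y ∈ zpowers z := by
      have := mul_mem h1 (inv_mem (mem_zpowers z))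
      rwa [mul_inv_cancel_right] at this
    have h3 : zpowers y ≤ zpowers z := by rwa [zpowers_le]
    have h4 : zpowers y = zpowers z := Subgroup.eq_of_le_of_card_ge h3 (by
      rw [Nat.card_zpowers, Nat.card_zpowers, ho, F.order_syl Q hz hz1])
    apply hzy
    rw [h4]
    exact mem_zpowers _
  have hyzQ : y * z ∈ (Q : Subgroup G) := mul_mem hy hz
  have d1 := disj y z hy hz hy1 hzy
  have d2 := disj y (y * z) hy hyzQ hy1 hyz
  have d3 := disj z (y * z) hz hyzQ hz1 hzyz
  have c1 := F.fix5 (Ω := Ω) (by omega) (by omega) ho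
  have c2 := F.fix5 (Ω := Ω) (by omega) (by omega) (F.order_syl Q hz hz1)
  have c3 := F.fix5 (Ω := Ω) (by omega) (by omega) (F.order_syl Q hyzQ hyz1)
  rw [Nat.card_coe_set_eq] at c1 c2 c3
  have h1 : (fixedBy Ω y ∪ fixedBy Ω z ∪ fixedBy Ω (y * z)).ncard =
      (fixedBy Ω y).ncard + (fixedBy Ω z).ncard + (fixedBy Ω (y * z)).ncard := by
    rw [Set.ncard_union_eq (Set.disjoint_union_left.2 ⟨d2, d3⟩), Set.ncard_union_eq d1]
  have h2 : (fixedBy Ω y ∪ fixedBy Ω z ∪ fixedBy Ω (y * z)).ncard ≤ Nat.card Ω := by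
    rw [← Set.ncard_univ]
    exact Set.ncard_le_ncard (Set.subset_univ _)
  omega

end five

theorem deg_chk : ((List.range 42).filter fun n => 27 ≤ n ∧ 17971200 % n = 0) = [27, 30, 32, 36, 39, 40] := by
  decide +kernel

include F in
/-- **The degree of a faithful transitive action is at least 42.** -/
theorem le_card [IsPretransitive G Ω] [Nonempty Ω] : 42 ≤ Nat.card Ω := by
  have f5 : Fact (Nat.Prime 5) := ⟨Nat.prime_five⟩
  by_contra hlt
  rw [not_le] at hlt
  have h27 := F.mod27 (Ω := Ω) hlt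
  have hd : Nat.card Ω ∣ 17971200 := by
    obtain ⟨ω⟩ : Nonempty Ω := inferInstance
    rw [← F.card, ← index_stabilizer_of_transitive (G := G) ω]
    exact Subgroup.index_dvd_card _
  have hmem : Nat.card Ω ∈ ((List.range 42).filter fun n => 27 ≤ n ∧ 17971200 % n = 0) := by
    rw [List.mem_filter]
    refine ⟨List.mem_range.2 hlt, ?_⟩
    simp only [decide_eq_true_eq]
    exact ⟨h27, Nat.mod_eq_zero_of_dvd hd⟩
  rw [deg_chk] at hmem
  simp only [List.mem_cons, List.not_mem_nil, or_false] at hmem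
  rcases hmem with h | h | h | h | h | h
  · exact F.ne27 h
  · exact F.ne30 h
  · have h1 := F.case_dvd (Ω := Ω) h27 hlt (by rw [h]; norm_num)
    rw [h] at h1
    revert h1; norm_num
  · have h1 := F.case_dvd (Ω := Ω) h27 hlt (by rw [h]; norm_num)
    rw [h] at h1
    revert h1; norm_num
  · have h1 := F.case_dvd (Ω := Ω) h27 hlt (by rw [h]; norm_num)
    rw [h] at h1
    revert h1; norm_num
  · exact F.ne40 h

end Facts

/-- **Proper subgroups have index at least 42.** -/
theorem Facts.le_index {G : Type u} [Group G] [Finite G] [IsSimpleGroup G] (F : Facts G) {L : Subgroup G}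
    (hL : L ≠ ⊤) : 42 ≤ L.index := by
  have hcore : L.normalCore = ⊥ := by
    rcases IsSimpleGroup.eq_bot_or_eq_top_of_normal L.normalCore L.normalCore_normal with h | h
    · exact h
    · exact absurd (eq_top_iff.2 (h ▸ L.normalCore_le)) hL
  have hf : FaithfulSMul G (G ⧸ L) := by
    refine ⟨fun {a b} hab => ?_⟩
    have h1 : a⁻¹ * b ∈ L.normalCore := by
      rw [Subgroup.normalCore_eq_ker, MonoidHom.mem_ker]
      ext w
      show (a⁻¹ * b) • w = w
      rw [mul_smul, ← hab w, inv_smul_smul]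
    rw [hcore, Subgroup.mem_bot, inv_mul_eq_one] at h1
    exact h1
  have := Fintype.ofFinite (G ⧸ L)
  exact F.le_card (Ω := G ⧸ L)

end Cfsg.Agent.H235.TitsIdx
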